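import Cfsg.Agent.H55.CoOneBd
import Cfsg.Agent.H813.CoSevenCard

/-!
# The centralizer of an element of order 13 of `Co0`, the 2-part (helper322)

`not_two` : `2 ^ 4` does not divide its order; `card_dvd` : the order in `Co1` divides `2 ^ 3 * 3 ^ 9 * 13`.
-/

set_option autoImplicit false

namespace Cfsg.Agent.H322.CoThirteen

open Subgroup Cfsg Module Cfsg.Agent.SporadicStructure.Co0Base
open Cfsg.Agent.CpAutBig Cfsg.Agent.H813.CoSevenRank Cfsg.Agent.H813.CoSevenCard
open Cfsg.Spor (Co1)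

theorem exists_eight {K : Type*} [Group K] [Finite K] (hK : Nat.card K = 2 ^ 4)
    (hu : ∀ x y : K, orderOf x = 2 → orderOf y = 2 → x = y) : ∃ g : K, orderOf g = 8 := by
  have : Fact (Nat.Prime 2) := ⟨Nat.prime_two⟩
  have hp : IsPGroup 2 K := IsPGroup.of_card hK
  have h2 : ∀ H : Subgroup K, Nat.card H = 2 → ∃ x : K, orderOf x = 2 ∧ H = zpowers x := by
    intro H hH
    obtain ⟨x, hx⟩ := exists_prime_orderOf_dvd_card' (G := ↥H) 2 (by rw [hH])
    refine ⟨x, by rw [Subgroup.orderOf_coe, hx], ?_⟩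
    symm
    apply eq_of_le_of_card_ge
    · rw [zpowers_le]; exact x.2
    · rw [Nat.card_zpowers, Subgroup.orderOf_coe, hx, hH]
  have huniq : ∀ H L : Subgroup K, Nat.card H = 2 → Nat.card L = 2 → H = L := by
    intro H L hH hL
    obtain ⟨x, hx, rfl⟩ := h2 H hH
    obtain ⟨y, hy, rfl⟩ := h2 L hL
    rw [hu x y hx hy]
  rcases S0016.result 2 hp huniq with hc | ⟨-, n, ⟨e⟩⟩
  · obtain ⟨g, hg⟩ := hc.exists_generator
    have h1 : orderOf g = 16 := by
      rw [orderOf_eq_card_of_forall_mem_zpowers hg, hK]; norm_num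
    refine ⟨g ^ 2, ?_⟩
    rw [orderOf_pow, h1]
    norm_num
  · have h1 : Nat.card (QuaternionGroup (2 ^ n)) = 4 * 2 ^ n := by
      have : NeZero (2 ^ n) := ⟨by positivity⟩
      rw [Nat.card_eq_fintype_card, QuaternionGroup.card]
    rw [← Nat.card_congr e.toEquiv, hK] at h1
    have h3 : 2 ^ n = 4 := by omega
    refine ⟨e.symm (QuaternionGroup.a 1), ?_⟩
    rw [MulEquiv.orderOf_eq, QuaternionGroup.orderOf_a_one, h3]

section Rep

variable {G V : Type*} [Group G] [AddCommGroup V] [Module ℚ V] [FiniteDimensional ℚ V]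

theorem no_eight (ρ : G →* Module.End ℚ V) (hV : finrank ℚ V = 24) {x : G}
    (hx : x ^ 13 = 1) (hfree : ∀ v, ρ x v = v → v = 0) {g : G} (hxg : x * g = g * x) (hg : g ^ 8 = 1)
    (hg4 : ∀ v, ρ (g ^ 4) v = -v) : False := by
  have hT : ∀ n, (ρ (x * g)) ^ n = ρ (x ^ n * g ^ n) := fun n => by
    rw [← map_pow, (show Commute x g from hxg).mul_pow]
  have hpow : ∀ k : ℕ, ∀ v, ρ x v = v → ρ (x ^ k) v = v := by
    intro k v hv
    induction k with
    | zero => rw [pow_zero, map_one]; rfl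
    | succ k ih => rw [pow_succ, map_mul, Module.End.mul_apply, hv, ih]
  have h1 : (104 : ℕ).totient ∣ finrank ℚ V := by
    refine PreUniqCo.Rat.dvd_finrank (by norm_num) (ρ (x * g)) ?_ ?_
    · rw [hT, show x ^ 104 = 1 by rw [show 104 = 13 * 8 by norm_num, pow_mul, hx, one_pow],
        show g ^ 104 = 1 by rw [show 104 = 8 * 13 by norm_num, pow_mul, hg, one_pow], one_mul, map_one]
    · intro p hp hd w hw
      have hp' : p = 2 ∨ p = 13 := by
        have h2 : p ∣ 2 ^ 3 * 13 := by rw [show 2 ^ 3 * 13 = 104 by norm_num]; exact hd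
        rcases hp.dvd_mul.1 h2 with h | h
        · exact Or.inl ((Nat.prime_dvd_prime_iff_eq hp Nat.prime_two).1 (hp.dvd_of_dvd_pow h))
        · exact Or.inr ((Nat.prime_dvd_prime_iff_eq hp (by norm_num)).1 h)
      rcases hp' with rfl | rfl
      · rw [show 104 / 2 = 52 by norm_num, hT,
          show x ^ 52 = 1 by rw [show 52 = 13 * 4 by norm_num, pow_mul, hx, one_pow],
          show g ^ 52 = g ^ 4 by
            rw [show 52 = 8 * 6 + 4 by norm_num, pow_add, pow_mul, hg, one_pow, one_mul], one_mul, hg4] at hw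
        have h3 : (2 : ℚ) • w = 0 := by
          rw [two_smul]
          nth_rewrite 1 [← hw]
          exact neg_add_cancel w
        rcases smul_eq_zero.1 h3 with h | h
        · norm_num at h
        · exact h
      · rw [show 104 / 13 = 8 by norm_num, hT, hg, mul_one] at hw
        -- `x ^ 8` fixes `w`, hence `x = (x ^ 8) ^ 5` fixes `w`
        apply hfree
        have h4 : ∀ k : ℕ, ρ ((x ^ 8) ^ k) w = w := by
          intro k
          induction k with
          | zero => rw [pow_zero, map_one]; rfl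
          | succ k ih => rw [pow_succ, map_mul, Module.End.mul_apply, hw, ih]
        have h5 := h4 5
        have h6 : (x ^ 8) ^ 5 = x := by
          rw [← pow_mul, show 8 * 5 = 13 * 3 + 1 by norm_num, pow_succ, pow_mul, hx, one_pow, one_mul]
        rwa [h6] at h5
  rw [hV, show (104 : ℕ).totient = 48 by decide] at h1
  norm_num at h1

end Rep

theorem not_two {x : Co0} (hx : orderOf x = 13) : ¬ 2 ^ 4 ∣ Nat.card (centralizer ({x} : Set Co0)) := by
  have hfree := BpSpor.MBigCo.free_thirteen hx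
  have hfin := CoZero.finite_co0
  have hx13 : x ^ 13 = 1 := by rw [← hx, pow_orderOf_eq_one]
  have : Fact (Nat.Prime 2) := ⟨Nat.prime_two⟩
  intro hd
  obtain ⟨K, hK⟩ := Sylow.exists_subgroup_card_pow_prime 2 hd
  have key : ∀ t : ↥(centralizer ({x} : Set Co0)), orderOf t = 2 → (t : Co0) = SporadicA.Co0Basic.negCo0 := by
    intro t ht
    have ht' : orderOf (t : Co0) = 2 := by rw [Subgroup.orderOf_coe, ht]
    refine FreeInv.eq_neg_of_free (p := 13) (by norm_num) (by norm_num) (by norm_num) hx13 hfree ?_ ?_ ?_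
    · rw [← pow_two, ← ht', pow_orderOf_eq_one]
    · intro h0
      rw [h0, orderOf_one] at ht'
      omega
    · exact (mem_centralizer_singleton_iff.1 t.2).symm
  obtain ⟨g, hg⟩ := exists_eight hK (fun a b ha hb => Subtype.ext (Subtype.ext
    ((key a (by rw [Subgroup.orderOf_coe, ha])).trans (key b (by rw [Subgroup.orderOf_coe, hb])).symm)))
  have hg' : orderOf (((g : ↥(centralizer ({x} : Set Co0))) : Co0)) = 8 := by
    rw [Subgroup.orderOf_coe, Subgroup.orderOf_coe, hg]
  have hg4 : orderOf ((g : ↥(centralizer ({x} : Set Co0))) ^ 4) = 2 := by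
    rw [orderOf_pow, Subgroup.orderOf_coe, hg]
    norm_num
  have h1 := key _ hg4
  refine no_eight SigZeroCo2.Lin.rep finrank_Sp hx13 (fun v hv => TwoPrimes.free_rep hfree hv)
    (g := ((g : ↥(centralizer ({x} : Set Co0))) : Co0)) (mem_centralizer_singleton_iff.1 (g : ↥(centralizer ({x} : Set Co0))).2).symm
    (by rw [← hg', pow_orderOf_eq_one]) ?_
  intro v
  have h2 : (((g : ↥(centralizer ({x} : Set Co0))) : Co0)) ^ 4 = SporadicA.Co0Basic.negCo0 := h1
  rw [h2]
  by_contra hne
  obtain ⟨w, c, hc, hw⟩ := TwoPrimes.exists_toV v (by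
    rintro rfl
    apply hne
    rw [map_zero, neg_zero])
  apply hne
  have h3 : SigZeroCo2.Lin.rep SporadicA.Co0Basic.negCo0 (c • v) = -(c • v) := by
    rw [← hw, SigZeroCo2.Lin.rep_toV]
    have h4 : SporadicA.Co0Basic.negCo0 • w = -w := SporadicA.Co0Basic.negCo0_apply w
    rw [h4]
    funext i
    simp [SigZeroCo2.Lin.toV]
  rw [map_smul, ← smul_neg] at h3
  exact smul_right_injective _ hc h3

theorem card_dvd {s : Co1} (hs : orderOf s = 13) :
    Nat.card (centralizer ({s} : Set Co1)) ∣ 2 ^ 3 * 3 ^ 9 * 13 := by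
  obtain ⟨a, rfl, ha, hao⟩ := H55.CoOneBd.exists_lift (by norm_num) (by norm_num) hs
  refine (H55.CoOneBd.card_cent_dvd (by decide) ha).trans ?_
  have hfin := CoZero.finite_co0
  have h0 : Nat.card (centralizer ({a} : Set Co0)) ≠ 0 := Nat.card_pos.ne'
  have h1 : Nat.card (centralizer ({a} : Set Co0)) ∣ 8315553613086720000 := by
    have := card_subgroup_dvd_card (centralizer ({a} : Set Co0))
    rwa [S0397.result] at this
  have hq : ∀ q : ℕ, q.Prime → 5 ≤ q → q ≠ 13 → ¬ q ^ (0 + 1) ∣ Nat.card (centralizer ({a} : Set Co0)) := by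
    intro q hq h7 h13
    rw [zero_add, pow_one]
    exact BpSpor.MBigCo.not_dvd_thirteen hao hq h7 h13
  have h2 := reduce Nat.prime_two 22 3 h0 (M := 3 ^ 9 * 5 ^ 4 * 7 ^ 2 * 11 * 13 * 23) (by
    refine h1.trans ?_
    norm_num) (not_two hao)
  have h3 := reduce Nat.prime_five 4 0 h0 (M := 2 ^ 3 * (3 ^ 9 * 7 ^ 2 * 11 * 13 * 23)) (by
    refine h2.trans ?_
    norm_num) (hq 5 (by norm_num) (by norm_num) (by norm_num))
  have h5 := reduce (p := 7) (by norm_num) 2 0 h0 (M := 2 ^ 3 * (3 ^ 9 * 11 * 13 * 23)) (by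
    refine h3.trans ?_
    norm_num) (hq 7 (by norm_num) (by norm_num) (by norm_num))
  have h6 := reduce (p := 11) (by norm_num) 1 0 h0 (M := 2 ^ 3 * (3 ^ 9 * 13 * 23)) (by
    refine h5.trans ?_
    norm_num) (hq 11 (by norm_num) (by norm_num) (by norm_num))
  have h8 := reduce (p := 23) (by norm_num) 1 0 h0 (M := 2 ^ 3 * (3 ^ 9 * 13)) (by
    refine h6.trans ?_
    norm_num) (hq 23 (by norm_num) (by norm_num) (by norm_num))
  refine h8.trans ?_
  norm_num

end Cfsg.Agent.H322.CoThirteen
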