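import Cfsg.Agent.H940.EngData
import Cfsg.Agent.H940.EngLoc
import Cfsg.Agent.H322.Eng.CoThirteen
import Cfsg.Agent.H689.SporCo12
import Cfsg.Agent.CoOneType.GenCrit
import Cfsg.Agent.ConwayFacts.AutCo1

/-!
# Row `Co1` of S5906/S5907 (helper322)

The subgroups: the normalizers of the Sylow subgroups for 13, 11, 3, the subgroup `Co2` and the maximal subgroup `2^11:M24`.
-/

set_option autoImplicit false

namespace Cfsg.Agent.H322.RowCo1

open Subgroup Cfsg.Agent.OrdDiv Cfsg.Agent.H940 Cfsg.Agent.H940.Eng Cfsg.Agent.H940.Eng.D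
open Cfsg.Agent.H940.MaxCls

abbrev G : Type := Cfsg.Spor.Co1

theorem card : Nat.card G = n_co1 := H55.CoOneBd.card_co1
theorem simple : IsSimpleGroup G := Cfsg.Agent.S0399.result.1
theorem fin : Finite G := Nat.finite_of_card_ne_zero (by rw [card]; decide)

theorem nab : ¬ ∀ a b : G, a * b = b * a := by
  have := fin
  have := simple
  intro h
  obtain ⟨x, hx⟩ := @exists_prime_orderOf_dvd_card' G _ _ 2 ⟨Nat.prime_two⟩ (by rw [card]; decide)
  have hn : (zpowers x).Normal := ⟨fun n hn g => by rw [h g n, mul_inv_cancel_right]; exact hn⟩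
  rcases hn.eq_bot_or_eq_top with h1 | h1
  · have h2 := Nat.card_zpowers x
    rw [h1, hx, card_bot] at h2
    omega
  · have h2 := Nat.card_zpowers x
    rw [h1, hx, card_top, card] at h2
    exact absurd h2 (by decide)

theorem zp {R : Subgroup G} {r : ℕ} (hr : r.Prime) (hR : Nat.card R = r) : ∃ s : G, orderOf s = r ∧
    (centralizer (R : Set G) : Subgroup G) = centralizer ({s} : Set G) := by
  have := Fact.mk hr
  have := fin
  obtain ⟨x, hx⟩ := exists_prime_orderOf_dvd_card' (G := ↥R) r (by rw [hR])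
  have h1 : zpowers (x : G) = R := by
    apply eq_of_le_of_card_ge
    · rw [zpowers_le]; exact x.2
    · rw [Nat.card_zpowers, Subgroup.orderOf_coe, hx, hR]
  refine ⟨x, by rw [Subgroup.orderOf_coe, hx], ?_⟩
  have h2 : (centralizer ((zpowers (x : G) : Subgroup G) : Set G) : Subgroup G) = centralizer ({(x : G)} : Set G) := by
    rw [zpowers_eq_closure, centralizer_closure]
  rw [← h2, h1]

theorem c11 {R : Subgroup G} (hR : Nat.card R = 11) :
    Nat.card (centralizer (R : Set G)) ∣ prodl [(2, 1), (3, 1), (11, 1)] := by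
  obtain ⟨s, hs, hc⟩ := zp (by norm_num) hR
  obtain ⟨g, hg⟩ := H800.ME.CoFacts.conj_s hs
  rw [hc, ← H55.CoOneBd.card_cent_conj (isConj_iff.2 ⟨g, hg⟩), H800.ME.CoFacts.card_cent]
  decide

theorem c23 {R : Subgroup G} (hR : Nat.card R = 23) :
    Nat.card (centralizer (R : Set G)) ∣ prodl [(2, 1), (23, 1)] := by
  have := fin
  obtain ⟨s, hs, hc⟩ := zp (by norm_num) hR
  obtain ⟨a, rfl, ha, hao⟩ := H55.CoOneBd.exists_lift (by norm_num) (by norm_num) hs
  have hfin := CpAutBig.CoZero.finite_co0
  have h1 := H604.Cop.Conway.card_cent_co0 hao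
  have h2 := Nat.le_of_dvd Nat.card_pos (H55.CoOneBd.card_cent_dvd (by decide) ha)
  rw [hc]
  have h3 := h2.trans h1
  have h4 : 23 ∣ Nat.card ↥(centralizer ({(QuotientGroup.mk a : Cfsg.Spor.Co1)} : Set Cfsg.Spor.Co1)) := by
    rw [← hs, ← Subgroup.orderOf_mk (QuotientGroup.mk a : Cfsg.Spor.Co1) (mem_centralizer_singleton_iff.2 rfl)]
    exact orderOf_dvd_natCard _
  have h5 : 0 < Nat.card ↥(centralizer ({(QuotientGroup.mk a : Cfsg.Spor.Co1)} : Set Cfsg.Spor.Co1)) := Nat.card_pos
  have h6 : prodl [(2, 1), (23, 1)] = 46 := by decide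
  rw [h6]
  obtain ⟨k, hk⟩ := h4
  rw [hk] at h3 h5 ⊢
  have hk' : k = 1 ∨ k = 2 := by omega
  rcases hk' with rfl | rfl <;> norm_num

theorem c13 {R : Subgroup G} (hR : Nat.card R = 13) :
    Nat.card (centralizer (R : Set G)) ∣ prodl [(2, 3), (3, 9), (13, 1)] := by
  obtain ⟨s, hs, hc⟩ := zp (by norm_num) hR
  rw [hc]
  exact (CoThirteen.card_dvd hs).trans (by decide)

/-- the local data -/
def loc : List LD := [⟨11, 66, [(2, 2), (3, 1), (5, 1), (11, 1)]⟩, ⟨13, 682344, [(2, 4), (3, 9), (13, 1)]⟩,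
  ⟨23, 23, [(11, 1), (23, 1)]⟩]

theorem ctx (B : Base) : Ctx G l_co1 n_co1 o_co1 loc where
  fin := fin
  simple := simple
  card := card
  val := v_co1
  nodup := nd_co1
  ords := ords_co1 B
  loc := by
    have := fin
    have := simple
    intro ld hld
    simp only [loc, List.mem_cons, List.not_mem_nil, or_false] at hld
    rcases hld with rfl | rfl | rfl
    · obtain ⟨R, hR⟩ := exists_card_eq (G := G) (r := 11) (by decide +kernel) (by rw [card]; decide +kernel)
      exact loc_of_cent nab card (by decide +kernel) (by decide +kernel) (by decide +kernel) hR (c11 hR)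
        (by decide +kernel) (by decide +kernel)
    · obtain ⟨R, hR⟩ := exists_card_eq (G := G) (r := 13) (by decide +kernel) (by rw [card]; decide +kernel)
      exact loc_of_cent nab card (by decide +kernel) (by decide +kernel) (by decide +kernel) hR (c13 hR)
        (by decide +kernel) (by decide +kernel)
    · obtain ⟨R, hR⟩ := exists_card_eq (G := G) (r := 23) (by decide +kernel) (by rw [card]; decide +kernel)
      exact loc_of_cent nab card (by decide +kernel) (by decide +kernel) (by decide +kernel) hR (c23 hR)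
        (by decide +kernel) (by decide +kernel)

/-! ### the subgroup `2^11:M24` -/

theorem exists_m24 : ∃ M : Subgroup G, IsCoatom M ∧ Nat.card M = 501397585920 := by
  have hfin := CpAutBig.CoZero.finite_co0
  have := fin
  have hsurj : Function.Surjective (QuotientGroup.mk' (center Cfsg.Co0)) := QuotientGroup.mk'_surjective _
  have hker : (QuotientGroup.mk' (center Cfsg.Co0)).ker ≤ center Cfsg.Co0 := (QuotientGroup.ker_mk' _).le
  have hperf : commutator Cfsg.Co0 = ⊤ := ConwayFacts.AutCo1.commutator_Co0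
  have hN := CoOneType.GenCrit.isCoatom_N
  have h1 := isCoatom_map hsurj hker hperf hN
  refine ⟨_, h1, ?_⟩
  have h2 := index_map_eq SporadicA.Co1Simple.N hsurj (ker_le_of_isCoatom hsurj hker hperf hN)
  rw [CoOneType.FrameFix.index_N] at h2
  have h3 := card_mul_index (SporadicA.Co1Simple.N.map (QuotientGroup.mk' (center Cfsg.Co0)))
  rw [h2] at h3
  have h4 : Nat.card (Cfsg.Co0 ⧸ center Cfsg.Co0) = 4157776806543360000 := card
  rw [h4] at h3
  apply Nat.eq_of_mul_eq_mul_right (by norm_num : 0 < 8292375)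
  rw [h3]

set_option maxHeartbeats 4000000 in
/-- the row `Co1` -/
theorem five (B : Base) : Sep 5 G := by
  have c := ctx B
  have := c.fin
  have := c.simple
  have hc := card
  obtain ⟨R11, h11⟩ := exists_card_eq (G := G) (r := 11) (by decide +kernel) (by rw [hc]; decide +kernel)
  obtain ⟨R13, h13⟩ := exists_card_eq (G := G) (r := 13) (by decide +kernel) (by rw [hc]; decide +kernel)
  have : Fact (Nat.Prime 3) := ⟨Nat.prime_three⟩
  obtain ⟨P⟩ : Nonempty (Sylow 3 G) := inferInstance
  have hPc : Nat.card (P : Subgroup G) = 3 ^ 9 := by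
    rw [Sylow.card_eq_multiplicity, hc]
    have : (n_co1).factorization 3 = 9 := by
      rw [← val_eq Nat.prime_three 9 n_co1 (by decide +kernel) (by
        have h := Nat.factorization_lt (n := n_co1) 3 (by decide +kernel)
        by_contra hlt
        push Not at hlt
        have h1 : 3 ^ (9 + 1) ∣ n_co1 := (pow_dvd_pow _ hlt).trans (Nat.ordProj_dvd _ _)
        exact absurd h1 (by decide +kernel))]
      decide +kernel
    rw [this]
  obtain ⟨ψ, hψ⟩ := H689.exists_co2_hom
  have hco2 : Nat.card ψ.range = 42305421312000 := by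
    rw [← NotCT.Orders.co2 ⟨MulEquiv.refl Cfsg.Spor.Co2⟩]
    exact (Nat.card_congr (MonoidHom.ofInjective hψ).toEquiv).symm
  obtain ⟨M, hM, hMc⟩ := exists_m24
  have f11 : ∀ p ∈ [11], Full p (normalizer (R11 : Set G)) := by
    intro p hp; rw [List.mem_singleton.1 hp]
    exact full_of_card hc (by decide +kernel) (by decide +kernel) h11
  have f13 : ∀ p ∈ [13], Full p (normalizer (R13 : Set G)) := by
    intro p hp; rw [List.mem_singleton.1 hp]
    exact full_of_card hc (by decide +kernel) (by decide +kernel) h13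
  have f3 : ∀ p ∈ [3], Full p (normalizer ((P : Subgroup G) : Set G)) := by
    intro p hp; rw [List.mem_singleton.1 hp]
    exact full_normalizer Nat.prime_three P
  have fn : ∀ {A : Subgroup G}, ∀ p ∈ ([] : List ℕ), Full p A := fun p hp => absurd hp List.not_mem_nil
  have d11 : 11 ∣ Nat.card (normalizer (R11 : Set G)) := h11 ▸ card_dvd_of_le Subgroup.le_normalizer
  have d13 : 13 ∣ Nat.card (normalizer (R13 : Set G)) := h13 ▸ card_dvd_of_le Subgroup.le_normalizer
  have d3 : 3 ^ 9 ∣ Nat.card (normalizer ((P : Subgroup G) : Set G)) := hPc ▸ card_dvd_of_le Subgroup.le_normalizer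
  have dc := hco2.symm.dvd
  have nt : ∀ {K : Subgroup G}, K ≠ ⊥ → K ≠ ⊤ → normalizer (K : Set G) ≠ ⊤ := by
    intro K h1 h2 h3
    rcases (normalizer_eq_top_iff.1 h3).eq_bot_or_eq_top with h | h
    · exact h1 h
    · exact h2 h
  have nt' : ∀ {K : Subgroup G} {k : ℕ}, Nat.card K = k → (k != 1) = true → (k != n_co1) = true →
      normalizer (K : Set G) ≠ ⊤ := by
    intro K k h1 h2 h3
    rw [bne_iff_ne] at h2 h3
    refine nt ?_ ?_
    · rintro rfl
      rw [card_bot] at h1
      exact h2 h1.symm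
    · rintro rfl
      rw [card_top, hc] at h1
      exact h3 h1.symm
  have nc : ψ.range ≠ ⊤ := by
    intro h
    rw [h, card_top, hc] at hco2
    exact absurd hco2 (by decide +kernel)
  have hMi : M.index = 8292375 := by
    have h := card_mul_index M
    rw [hMc, hc] at h
    apply Nat.eq_of_mul_eq_mul_left (by norm_num : 0 < 501397585920)
    rw [h]
    decide +kernel
  exact sep_five (nt' h13 (by decide +kernel) (by decide +kernel)) (nt' h11 (by decide +kernel) (by decide +kernel)) nc hM.1
    (nt' hPc (by decide +kernel) (by decide +kernel))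
    (c.apart d13 d11 [(2, 21), (3, 9), (5, 4), (7, 2), (23, 1)] _ _ 60 f13 f11 (by decide +kernel))
    (c.apart d13 dc [(2, 3), (3, 3), (5, 1), (7, 1)] _ _ 60 f13 fn (by decide +kernel))
    (apart_of_coatom_dvd hM d13 (by rw [hMc]; decide +kernel)).symm
    (c.apart d13 d3 [(2, 21), (5, 4), (7, 2), (11, 1), (23, 1)] _ _ 60 f13 f3 (by decide +kernel))
    (c.apart d11 dc [(2, 3), (3, 3), (5, 1), (7, 1), (13, 1)] _ _ 60 f11 fn (by decide +kernel))
    (apart_of_coatom_full hM (f11 11 (by simp)) (by rw [hMi]; decide +kernel)).symm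
    (c.apart d11 d3 [(2, 21), (5, 4), (7, 2), (13, 1), (23, 1)] _ _ 60 f11 f3 (by decide +kernel))
    (apart_of_coatom_dvd hM dc (by rw [hMc]; decide +kernel)).symm
    (c.apart dc d3 [(2, 3), (5, 1), (7, 1), (13, 1)] _ _ 60 fn f3 (by decide +kernel))
    (apart_of_coatom_dvd hM d3 (by rw [hMc]; decide +kernel))

end Cfsg.Agent.H322.RowCo1
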